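import Mathlib
import Groth.Agent.GrpField.Irreducible
import Groth.Agent.FinHopf.PerfTensor
/-!
Geometric irreducibility and connectedness over fields.
-/
universe u
open AlgebraicGeometry CategoryTheory CategoryTheory.Limits TensorProduct Groth.Agent.GrpField
set_option backward.isDefEq.respectTransparency false
set_option linter.style.haveILetI false

namespace Groth.Agent.GeomConn

/-- Over an algebraically closed field, the tensor product of domains, one of finite type, with a field. -/
theorem isDomain_tensor_fg {k A L : Type u} [Field k] [IsAlgClosed k] [CommRing A] [IsDomain A]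
    [Algebra k A] [Algebra.FiniteType k A] [Field L] [Algebra k L] : IsDomain (A ⊗[k] L) := by
  let f := Spec.map (CommRingCat.ofHom (algebraMap k A))
  let g := Spec.map (CommRingCat.ofHom (algebraMap k L))
  haveI : LocallyOfFiniteType f := (HasRingHomProperty.Spec_iff (P := @LocallyOfFiniteType)).2
    (RingHom.finiteType_algebraMap.2 ‹_›)
  haveI : IrreducibleSpace ↥(Spec (CommRingCat.of A)) :=
    inferInstanceAs (IrreducibleSpace (PrimeSpectrum A))
  haveI := Groth.Agent.GrpField.irreducibleSpace_pullback f g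
  haveI : IrreducibleSpace (PrimeSpectrum (A ⊗[k] L)) :=
    (pullbackSpecIso k A L).hom.homeomorph.irreducibleSpace_iff.1 ‹_›
  haveI : _root_.IsReduced (A ⊗[k] L) := Groth.Agent.FinHopf.isReduced_tensor_of_perfect k L A
  have h1 : (nilradical (A ⊗[k] L)).IsPrime := PrimeSpectrum.irreducibleSpace_iff_isPrime_nilradical.1 ‹_›
  rw [nilradical_eq_zero] at h1
  haveI : (⊥ : Ideal (A ⊗[k] L)).IsPrime := h1
  exact IsDomain.of_bot_isPrime _

/-- Over an algebraically closed field, the tensor product of two fields is a domain. -/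
theorem isDomain_tensor {k : Type u} [Field k] [IsAlgClosed k] (K L : Type u) [Field K] [Field L]
    [Algebra k K] [Algebra k L] : IsDomain (L ⊗[k] K) := by
  haveI : Nontrivial (L ⊗[k] K) := TensorProduct.nontrivial_of_linearMap_injective_of_flat_left k L K
    (Algebra.linearMap k K) (algebraMap k K).injective
  haveI : NoZeroDivisors (L ⊗[k] K) := ⟨fun {x y} hxy => by
    obtain ⟨C₁, hC₁, z₁, hz₁⟩ := exists_fg_and_mem_baseChange x
    obtain ⟨C₂, hC₂, z₂, hz₂⟩ := exists_fg_and_mem_baseChange y
    let D := C₁ ⊔ C₂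
    haveI : Algebra.FiniteType k D := (Subalgebra.fg_iff_finiteType D).1 (hC₁.sup hC₂)
    haveI : IsDomain (↥D ⊗[k] L) := isDomain_tensor_fg
    haveI : IsDomain (L ⊗[k] ↥D) := (Algebra.TensorProduct.comm k L ↥D).toMulEquiv.isDomain_iff.2 ‹_›
    let m := Algebra.TensorProduct.map (AlgHom.id L L) D.val
    have hm : Function.Injective m :=
      Module.Flat.lTensor_preserves_injective_linearMap _ Subtype.val_injective
    have key : ∀ (C : Subalgebra k K) (h : C ≤ D) z,
        Algebra.TensorProduct.map (AlgHom.id L L) C.val z =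
          m (Algebra.TensorProduct.map (AlgHom.id L L) (Subalgebra.inclusion h) z) := by
      intro C h z
      induction z with
      | zero => simp
      | tmul a b => simp [m]
      | add a b ha hb => simp [map_add, ha, hb]
    have e1 := (key C₁ le_sup_left z₁).symm.trans hz₁
    have e2 := (key C₂ le_sup_right z₂).symm.trans hz₂
    rw [← e1, ← e2, ← map_mul, map_eq_zero_iff m hm] at hxy
    rcases mul_eq_zero.1 hxy with h | h
    · exact Or.inl (by rw [← e1, h, map_zero])
    · exact Or.inr (by rw [← e2, h, map_zero])⟩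
  exact NoZeroDivisors.to_isDomain _

/-- An extension of an algebraically closed field is geometrically irreducible. -/
theorem geometricallyIrreducible_Spec {k : Type u} [Field k] [IsAlgClosed k] (K : Type u) [Field K]
    [Algebra k K] : GeometricallyIrreducible (Spec.map (CommRingCat.ofHom (algebraMap k K))) := by
  refine ⟨geometrically_iff_of_commRing.2 fun L _ _ Z fst snd hZ => ?_⟩
  haveI := isDomain_tensor (k := k) L K
  haveI : IrreducibleSpace ↥(Spec (CommRingCat.of (K ⊗[k] L))) :=
    inferInstanceAs (IrreducibleSpace (PrimeSpectrum (K ⊗[k] L)))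
  exact (hZ.isoPullback ≪≫ pullbackSpecIso k K L).hom.homeomorph.irreducibleSpace_iff.2 ‹_›

theorem geometricallyConnected_of_irreducible {X S : Scheme.{u}} (f : X ⟶ S)
    [GeometricallyIrreducible f] : GeometricallyConnected f := by
  refine ⟨fun K _ y Z fst snd h => ?_⟩
  haveI := GeometricallyIrreducible.geometrically_irreducibleSpace (f := f) y fst snd h
  infer_instance

theorem geometricallyConnected_Spec {k : Type u} [Field k] [IsAlgClosed k] (K : Type u) [Field K]
    [Algebra k K] : GeometricallyConnected (Spec.map (CommRingCat.ofHom (algebraMap k K))) :=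
  haveI := geometricallyIrreducible_Spec (k := k) K
  geometricallyConnected_of_irreducible _

/-- Preimages of connected sets under open maps with connected fibres. -/
theorem isConnected_preimage {α β : Type*} [TopologicalSpace α] [TopologicalSpace β] {f : α → β}
    (hf : IsOpenMap f) (hfib : ∀ b, _root_.IsConnected (f ⁻¹' {b})) {s : Set β}
    (hs : _root_.IsConnected s) : _root_.IsConnected (f ⁻¹' s) := by
  obtain ⟨b, hb⟩ := hs.nonempty
  obtain ⟨a, ha⟩ := (hfib b).nonempty
  refine ⟨⟨a, show f a ∈ s by rw [show f a = b from ha]; exact hb⟩, ?_⟩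
  intro u v hu hv huv ⟨x, hxs, hxu⟩ ⟨y, hys, hyv⟩
  obtain ⟨c, hcs, ⟨p, hpu, hpc⟩, ⟨q, hqv, hqc⟩⟩ := hs.isPreconnected (f '' u) (f '' v) (hf u hu) (hf v hv)
    (fun c hc => by
      obtain ⟨z, hz⟩ := (hfib c).nonempty
      have hzc : f z = c := hz
      rcases huv (show z ∈ f ⁻¹' s by change f z ∈ s; rw [hzc]; exact hc) with h | h
      · exact Or.inl ⟨z, h, hzc⟩
      · exact Or.inr ⟨z, h, hzc⟩)
    ⟨f x, hxs, x, hxu, rfl⟩ ⟨f y, hys, y, hyv, rfl⟩
  obtain ⟨z, hz, hzu, hzv⟩ := (hfib c).isPreconnected u v hu hv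
    (fun z hz => huv (show f z ∈ s by rw [show f z = c from hz]; exact hcs))
    ⟨p, hpc, hpu⟩ ⟨q, hqc, hqv⟩
  exact ⟨z, show f z ∈ s by rw [show f z = c from hz]; exact hcs, hzu, hzv⟩

theorem isConnected_preimage_fst {k : Type u} [Field k] [IsAlgClosed k] {K : Type u} [Field K]
    [Algebra k K] {X : Scheme.{u}} (f : X ⟶ Spec (CommRingCat.of k)) {Z : Set X}
    (hZ : _root_.IsConnected Z) :
    _root_.IsConnected ((pullback.fst f (Spec.map (CommRingCat.ofHom (algebraMap k K)))).base ⁻¹' Z) := by
  haveI := geometricallyConnected_Spec (k := k) K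
  exact isConnected_preimage (pullback.fst f _).isOpenMap
    (fun x => (pullback.fst f _).isConnected_preimage_singleton x) hZ

theorem isIrreducible_preimage_fst {k : Type u} [Field k] [IsAlgClosed k] {K : Type u} [Field K]
    [Algebra k K] {X : Scheme.{u}} (f : X ⟶ Spec (CommRingCat.of k)) {Z : Set X}
    (hZ : IsIrreducible Z) :
    IsIrreducible ((pullback.fst f (Spec.map (CommRingCat.ofHom (algebraMap k K)))).base ⁻¹' Z) := by
  haveI := geometricallyIrreducible_Spec (k := k) K
  exact (pullback.fst f _).isIrreducible_preimage (pullback.fst f _).isOpenMap hZ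

/-- If the preimage of `C` over an algebraic closure is connected, it is connected over every extension. -/
theorem isConnected_preimage_of_algClosure {k : Type u} [Field k] {K : Type u} [Field K] [Algebra k K]
    {X : Scheme.{u}} (f : X ⟶ Spec (CommRingCat.of k)) {C : Set X}
    (hC : _root_.IsConnected
      ((pullback.fst f (Spec.map (CommRingCat.ofHom (algebraMap k (AlgebraicClosure k))))).base ⁻¹' C)) :
    _root_.IsConnected ((pullback.fst f (Spec.map (CommRingCat.ofHom (algebraMap k K)))).base ⁻¹' C) := by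
  let k' := AlgebraicClosure k
  let L := AlgebraicClosure K
  let ι : k' →ₐ[k] L := IsAlgClosed.lift
  letI := ι.toRingHom.toAlgebra
  let g := Spec.map (CommRingCat.ofHom (algebraMap k k'))
  let v := Spec.map (CommRingCat.ofHom (algebraMap k' L))
  let w := Spec.map (CommRingCat.ofHom (algebraMap k K))
  let r := Spec.map (CommRingCat.ofHom (algebraMap K L))
  haveI : Surjective r := PointBase.surj L r
  have e : v ≫ g = r ≫ w := by
    rw [← Spec.map_comp, ← Spec.map_comp]
    congr 1
    ext a
    exact (ι.commutes a).trans (IsScalarTower.algebraMap_apply k K L a)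
  have h1 := isConnected_preimage_fst (k := k') (K := L) (pullback.snd f g) hC
  let q : pullback (pullback.snd f g) v ⟶ pullback f w :=
    (pullbackLeftPullbackSndIso f g v).hom ≫ (pullback.congrHom rfl e).hom ≫
      (pullbackLeftPullbackSndIso f w r).inv ≫ pullback.fst _ r
  have hq : q ≫ pullback.fst f w = pullback.fst (pullback.snd f g) v ≫ pullback.fst f g := by
    simp [q]
  haveI : Surjective q := inferInstance
  have h2 := h1.image q q.continuous.continuousOn
  have heq : q '' ((pullback.fst (pullback.snd f g) v).base ⁻¹' ((pullback.fst f g).base ⁻¹' C)) =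
      (pullback.fst f w).base ⁻¹' C := by
    rw [← Set.image_preimage_eq ((pullback.fst f w).base ⁻¹' C) q.surjective]
    congr 1
    ext z
    change pullback.fst f g (pullback.fst (pullback.snd f g) v z) ∈ C ↔ pullback.fst f w (q z) ∈ C
    rw [← Scheme.Hom.comp_apply, ← Scheme.Hom.comp_apply, hq]
  rw [heq] at h2
  exact h2

/-- A connected closed set, one fibre of which lies in a connected subset of its preimage over the
algebraic closure, has geometrically connected preimage. -/
theorem isConnected_preimage_of_fibre {k : Type u} [Field k] {K : Type u} [Field K] [Algebra k K]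
    {X : Scheme.{u}} (f : X ⟶ Spec (CommRingCat.of k)) {C : Set X} (hCc : IsClosed C)
    (hC : _root_.IsConnected C) {z : X} (hz : z ∈ C)
    {D : Set ↥(pullback f (Spec.map (CommRingCat.ofHom (algebraMap k (AlgebraicClosure k)))))}
    (hD : _root_.IsPreconnected D)
    (hDC : D ⊆ (pullback.fst f (Spec.map (CommRingCat.ofHom (algebraMap k (AlgebraicClosure k))))).base ⁻¹' C)
    (hzD : (pullback.fst f (Spec.map (CommRingCat.ofHom (algebraMap k (AlgebraicClosure k))))).base ⁻¹' {z} ⊆ D) :
    _root_.IsConnected ((pullback.fst f (Spec.map (CommRingCat.ofHom (algebraMap k K)))).base ⁻¹' C) := by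
  apply isConnected_preimage_of_algClosure
  let g := Spec.map (CommRingCat.ofHom (algebraMap k (AlgebraicClosure k)))
  haveI : IsIntegralHom g := IsIntegralHom.SpecMap_iff.2 Algebra.IsIntegral.isIntegral
  haveI : UniversallyOpen g := PointBase.uopen _ g
  haveI : Surjective g := PointBase.surj _ g
  let π := pullback.fst f g
  obtain ⟨z', hz'⟩ := π.surjective z
  have hzP : z' ∈ π ⁻¹' C := show π z' ∈ C by rw [hz']; exact hz
  refine ⟨⟨z', hzP⟩, ?_⟩
  rw [isPreconnected_closed_iff]
  intro t t' ht ht' hsub ⟨a, haP, hat⟩ ⟨b, hbP, hbt⟩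
  by_contra hne
  have hnot : ∀ x ∈ π ⁻¹' C, x ∈ t → x ∉ t' := fun x hx h h' => hne ⟨x, hx, h, h'⟩
  have key : ∀ t t' : Set ↥(pullback f g), IsClosed t → IsClosed t' → π ⁻¹' C ⊆ t ∪ t' →
      (∀ x ∈ π ⁻¹' C, x ∈ t → x ∉ t') → ((π ⁻¹' C) ∩ t).Nonempty → ∃ x ∈ D, x ∈ t := by
    intro t t' ht ht' hsub hnot ⟨a, haP, hat⟩
    obtain ⟨c, hc, ⟨x, ⟨hxC, hxt⟩, hxc⟩⟩ : ∃ c, c = z ∧ c ∈ π '' (π ⁻¹' C ∩ t) := by
      refine ⟨z, rfl, ?_⟩
      have h1 : IsClosed (π '' (π ⁻¹' C ∩ t)) :=
        π.isClosedMap _ ((hCc.preimage π.continuous).inter ht)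
      by_contra hzn
      obtain ⟨c, hcC, hc1, hc2⟩ := hC.isPreconnected (π '' (π ⁻¹' C ∩ t))ᶜ (π '' t'ᶜ)
        h1.isOpen_compl (π.isOpenMap _ ht'.isOpen_compl)
        (fun c hc => by
          by_cases hc' : c ∈ π '' (π ⁻¹' C ∩ t)
          · obtain ⟨x, ⟨hxC, hxt⟩, rfl⟩ := hc'
            exact Or.inr ⟨x, hnot x hxC hxt, rfl⟩
          · exact Or.inl hc')
        ⟨z, hz, hzn⟩ ⟨π a, haP, a, hnot a haP hat, rfl⟩
      obtain ⟨x, hx, rfl⟩ := hc2
      rcases hsub (show x ∈ π ⁻¹' C from hcC) with h | h
      · exact hc1 ⟨x, ⟨hcC, h⟩, rfl⟩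
      · exact hx h
    exact ⟨x, hzD (hxc.trans hc), hxt⟩
  obtain ⟨x, hxD, hxt⟩ := key t t' ht ht' hsub hnot ⟨a, haP, hat⟩
  obtain ⟨y, hyD, hyt⟩ := key t' t ht' ht (Set.union_comm t t' ▸ hsub)
    (fun x hx h h' => hnot x hx h' h) ⟨b, hbP, hbt⟩
  obtain ⟨w, hwD, hw⟩ := (isPreconnected_closed_iff.1 hD) t t' ht ht' (hDC.trans hsub)
    ⟨x, hxD, hxt⟩ ⟨y, hyD, hyt⟩
  exact hne ⟨w, hDC hwD, hw⟩

/-- The preimage of a connected component meeting the image of a geometrically connected scheme. -/
theorem isConnected_preimage_connectedComponent {k : Type u} [Field k] {K : Type u} [Field K]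
    [Algebra k K] {X Y : Scheme.{u}} (f : X ⟶ Spec (CommRingCat.of k))
    (g : Y ⟶ Spec (CommRingCat.of k)) (h : Y ⟶ X) (w : h ≫ f = g) [GeometricallyConnected g] (y : Y) :
    _root_.IsConnected ((pullback.fst f (Spec.map (CommRingCat.ofHom (algebraMap k K)))).base ⁻¹'
      connectedComponent (h y)) := by
  haveI : Subsingleton (Spec (CommRingCat.of k)) := inferInstanceAs (Subsingleton (PrimeSpectrum k))
  haveI : ConnectedSpace Y := GeometricallyConnected.connectedSpace_of_subsingleton (f := g)
  let a := Spec.map (CommRingCat.ofHom (algebraMap k (AlgebraicClosure k)))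
  haveI : ConnectedSpace ↥(pullback g a) :=
    GeometricallyConnected.geometrically_connectedSpace (f := g) a _ _ (.of_hasPullback g a)
  let m := pullback.map g a f a h (𝟙 _) (𝟙 _) (by simp [w]) (by simp)
  refine isConnected_preimage_of_fibre f isClosed_connectedComponent isConnected_connectedComponent
    (z := h y) mem_connectedComponent (D := Set.range m) (isPreconnected_range m.continuous) ?_ ?_
  · rintro _ ⟨t, rfl⟩
    change pullback.fst f a (m t) ∈ connectedComponent (h y)
    rw [← Scheme.Hom.comp_apply, show m ≫ pullback.fst f a = pullback.fst g a ≫ h by simp [m],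
      Scheme.Hom.comp_apply]
    exact (isPreconnected_range h.continuous).subset_connectedComponent ⟨y, rfl⟩ ⟨_, rfl⟩
  · intro t ht
    rw [Scheme.Pullback.range_map]
    exact ⟨⟨y, ht.symm⟩, ⟨_, rfl⟩⟩

/-- A geometric property inherited by images descends along surjective base change. -/
theorem geometrically_descends (P : ObjectProperty Scheme.{u})
    (hP : ∀ (A B : Scheme.{u}) (q : A ⟶ B) [Surjective q], P A → P B) {X Y Y' : Scheme.{u}}
    (f : X ⟶ Y) (g : Y' ⟶ Y) [Surjective g] (h : geometrically P (pullback.snd f g)) :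
    geometrically P f := by
  intro K _ y Z fst snd hZ
  obtain ⟨w⟩ : Nonempty ↥(pullback g y) := by
    obtain ⟨t, -⟩ := (pullback.snd g y).surjective (IsLocalRing.closedPoint K)
    exact ⟨t⟩
  let L := (pullback g y).residueField w
  let s : Spec (CommRingCat.of L) ⟶ Y' := (pullback g y).fromSpecResidueField w ≫ pullback.fst g y
  let r : Spec (CommRingCat.of L) ⟶ Spec (CommRingCat.of K) :=
    (pullback g y).fromSpecResidueField w ≫ pullback.snd g y
  haveI : Subsingleton (Spec (CommRingCat.of K)) := inferInstanceAs (Subsingleton (PrimeSpectrum K))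
  haveI : Surjective r := ⟨fun t => ⟨IsLocalRing.closedPoint _, Subsingleton.elim _ _⟩⟩
  have e : s ≫ g = r ≫ y := by simp only [s, r, Category.assoc, pullback.condition]
  let q : pullback (pullback.snd f g) s ⟶ pullback f y :=
    (pullbackLeftPullbackSndIso f g s).hom ≫ (pullback.congrHom rfl e).hom ≫
      (pullbackLeftPullbackSndIso f y r).inv ≫ pullback.fst _ r
  haveI : Surjective q := inferInstance
  haveI : Surjective (q ≫ hZ.isoPullback.inv) := inferInstance
  exact hP _ _ (q ≫ hZ.isoPullback.inv) (h s _ _ (.of_hasPullback _ _))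

theorem irreducibleSpace_of_surjective (A B : Scheme.{u}) (q : A ⟶ B) [Surjective q]
    (h : IrreducibleSpace A) : IrreducibleSpace B :=
  Function.Surjective.irreducibleSpace q.continuous q.surjective

theorem connectedSpace_of_surjective (A B : Scheme.{u}) (q : A ⟶ B) [Surjective q]
    (h : ConnectedSpace A) : ConnectedSpace B :=
  q.surjective.connectedSpace q.continuous

end Groth.Agent.GeomConn
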