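import Mathlib
import Groth.Agent.GeomConn.Basic
/-!
Normal extensions act transitively on fibres; primary extensions are geometrically irreducible.
-/
universe u
open AlgebraicGeometry CategoryTheory CategoryTheory.Limits TensorProduct
set_option backward.isDefEq.respectTransparency false
set_option linter.style.haveILetI false

namespace Groth.Agent.GeomConn

/-- Two embeddings of a normal extension differ by an automorphism. -/
theorem exists_algEquiv_comp {k K L : Type u} [Field k] [Field K] [Field L] [Algebra k K]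
    [Algebra k L] [Normal k K] (τ₁ τ₂ : K →ₐ[k] L) : ∃ σ : K ≃ₐ[k] K, τ₁.comp σ.toAlgHom = τ₂ := by
  let e₁ : K ≃ₐ[k] τ₁.fieldRange := AlgEquiv.ofInjectiveField τ₁
  haveI : Normal k τ₁.fieldRange := Normal.of_algEquiv e₁
  have h : (τ₂.comp e₁.symm.toAlgHom).fieldRange = τ₁.fieldRange := AlgHom.fieldRange_of_normal _
  have h2 : τ₂.fieldRange = τ₁.fieldRange := by
    rw [← h]
    ext y
    simp only [AlgHom.mem_fieldRange, AlgHom.comp_apply, AlgEquiv.coe_toAlgHom]
    exact ⟨fun ⟨x, hx⟩ => ⟨e₁ x, by rw [AlgEquiv.symm_apply_apply]; exact hx⟩,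
      fun ⟨x, hx⟩ => ⟨_, hx⟩⟩
  let e₂ : K ≃ₐ[k] τ₂.fieldRange := AlgEquiv.ofInjectiveField τ₂
  refine ⟨e₂.trans ((IntermediateField.equivOfEq h2).trans e₁.symm), AlgHom.ext fun x => ?_⟩
  change ((e₁ (e₁.symm (IntermediateField.equivOfEq h2 (e₂ x)))) : L) = τ₂ x
  rw [AlgEquiv.apply_symm_apply]
  rfl

/-- The action of an automorphism of the field on the base change. -/
noncomputable def autMap {k K : Type u} [Field k] [Field K] [Algebra k K] {X : Scheme.{u}}
    (f : X ⟶ Spec (CommRingCat.of k)) (σ : K ≃ₐ[k] K) :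
    pullback f (Spec.map (CommRingCat.ofHom (algebraMap k K))) ⟶
      pullback f (Spec.map (CommRingCat.ofHom (algebraMap k K))) :=
  pullback.map _ _ _ _ (𝟙 X) (Spec.map (CommRingCat.ofHom σ.toAlgHom.toRingHom)) (𝟙 _) (by simp) (by
    rw [Category.comp_id, ← Spec.map_comp]
    congr 1
    ext a
    exact (σ.commutes a).symm)

@[reassoc (attr := simp)]
theorem autMap_fst {k K : Type u} [Field k] [Field K] [Algebra k K] {X : Scheme.{u}}
    (f : X ⟶ Spec (CommRingCat.of k)) (σ : K ≃ₐ[k] K) :
    autMap f σ ≫ pullback.fst f _ = pullback.fst f _ := by simp [autMap]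

@[reassoc (attr := simp)]
theorem autMap_snd {k K : Type u} [Field k] [Field K] [Algebra k K] {X : Scheme.{u}}
    (f : X ⟶ Spec (CommRingCat.of k)) (σ : K ≃ₐ[k] K) :
    autMap f σ ≫ pullback.snd f _ =
      pullback.snd f _ ≫ Spec.map (CommRingCat.ofHom σ.toAlgHom.toRingHom) := by simp [autMap]

theorem autMap_comp {k K : Type u} [Field k] [Field K] [Algebra k K] {X : Scheme.{u}}
    (f : X ⟶ Spec (CommRingCat.of k)) (σ : K ≃ₐ[k] K) : autMap f σ ≫ autMap f σ.symm = 𝟙 _ := by
  apply pullback.hom_ext
  · simp
  · rw [Category.assoc, autMap_snd, autMap_snd_assoc, Category.id_comp, ← Spec.map_comp]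
    conv_rhs => rw [← Category.comp_id (pullback.snd f _)]
    congr 1
    rw [← Spec.map_id]
    congr 1
    ext a
    exact σ.apply_symm_apply a

theorem isHomeomorph_autMap {k K : Type u} [Field k] [Field K] [Algebra k K] {X : Scheme.{u}}
    (f : X ⟶ Spec (CommRingCat.of k)) (σ : K ≃ₐ[k] K) : IsHomeomorph (autMap f σ) := by
  haveI : IsIso (autMap f σ) :=
    ⟨autMap f σ.symm, autMap_comp f σ, by simpa using autMap_comp f σ.symm⟩
  exact (autMap f σ).homeomorph.isHomeomorph

/-- A normal extension's automorphisms act transitively on the fibres of the base change. -/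
theorem exists_autMap_eq {k K : Type u} [Field k] [Field K] [Algebra k K] [Normal k K]
    {X : Scheme.{u}} (f : X ⟶ Spec (CommRingCat.of k))
    (z₁ z₂ : ↥(pullback f (Spec.map (CommRingCat.ofHom (algebraMap k K)))))
    (h : pullback.fst f _ z₁ = pullback.fst f _ z₂) : ∃ σ : K ≃ₐ[k] K, autMap f σ z₁ = z₂ := by
  let π := pullback.fst f (Spec.map (CommRingCat.ofHom (algebraMap k K)))
  obtain ⟨t, ht₁, ht₂⟩ := Scheme.Pullback.exists_preimage_pullback (f := π) (g := π) z₁ z₂ h
  let L : Type u := (pullback π π).residueField t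
  letI : Field L := inferInstanceAs (Field ((pullback π π).residueField t))
  let a₁ : Spec (CommRingCat.of L) ⟶ pullback f (Spec.map (CommRingCat.ofHom (algebraMap k K))) :=
    (pullback π π).fromSpecResidueField t ≫ pullback.fst π π
  let a₂ : Spec (CommRingCat.of L) ⟶ pullback f (Spec.map (CommRingCat.ofHom (algebraMap k K))) :=
    (pullback π π).fromSpecResidueField t ≫ pullback.snd π π
  have hπ : a₁ ≫ π = a₂ ≫ π := by simp only [a₁, a₂, Category.assoc, pullback.condition]
  obtain ⟨t₁, ht₁'⟩ := Spec.map_surjective (a₁ ≫ pullback.snd f _)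
  obtain ⟨t₂, ht₂'⟩ := Spec.map_surjective (a₂ ≫ pullback.snd f _)
  have hk : (CommRingCat.ofHom (algebraMap k K)) ≫ t₁ = (CommRingCat.ofHom (algebraMap k K)) ≫ t₂ := by
    apply Spec.map_injective
    have e : ∀ a : Spec (CommRingCat.of L) ⟶ pullback f (Spec.map (CommRingCat.ofHom (algebraMap k K))),
        (a ≫ pullback.snd f _) ≫ Spec.map (CommRingCat.ofHom (algebraMap k K)) = (a ≫ π) ≫ f := fun a => by
      rw [Category.assoc, Category.assoc, pullback.condition]
    rw [Spec.map_comp, Spec.map_comp, ht₁', ht₂', e, e, hπ]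
  letI : Algebra k L := (t₁.hom.comp (algebraMap k K)).toAlgebra
  let τ₁ : K →ₐ[k] L := { t₁.hom with commutes' := fun a => rfl }
  let τ₂ : K →ₐ[k] L := { t₂.hom with
    commutes' := fun a => (congrArg (fun φ => φ.hom a) hk).symm }
  obtain ⟨σ, hσ⟩ := exists_algEquiv_comp τ₁ τ₂
  refine ⟨σ, ?_⟩
  have hm : a₁ ≫ autMap f σ = a₂ := by
    apply pullback.hom_ext
    · rw [Category.assoc, autMap_fst]; exact hπ
    · rw [Category.assoc, autMap_snd, ← Category.assoc, ← ht₁', ← ht₂', ← Spec.map_comp]
      congr 1
      ext a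
      exact DFunLike.congr_fun hσ a
  have hp : (pullback π π).fromSpecResidueField t (IsLocalRing.closedPoint _) = t :=
    Scheme.fromSpecResidueField_apply _ _
  have e₁ : a₁ (IsLocalRing.closedPoint L) = z₁ :=
    (congrArg (pullback.fst π π) hp).trans ht₁
  have e₂ : a₂ (IsLocalRing.closedPoint L) = z₂ :=
    (congrArg (pullback.snd π π) hp).trans ht₂
  rw [← e₁, ← e₂, ← hm]
  rfl

/-- The minimal polynomial of a separable element does not change over a primary extension. -/
theorem natDegree_minpoly_eq {k F Ω : Type u} [Field k] [Field F] [Field Ω] [IsAlgClosed Ω]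
    [Algebra k F] [Algebra k Ω] [Algebra F Ω] [IsScalarTower k F Ω]
    (h : separableClosure k F = ⊥) (β : Ω) (hβ : IsSeparable k β) :
    (minpoly F β).natDegree = (minpoly k β).natDegree := by
  have hint : IsIntegral k β := hβ.isIntegral
  refine le_antisymm ((Polynomial.natDegree_le_of_dvd (minpoly.dvd_map_of_isScalarTower k F β)
    (Polynomial.map_ne_zero (minpoly.ne_zero hint))).trans Polynomial.natDegree_map_le) ?_
  let q := minpoly F β
  let S := separableClosure k Ω
  have hqm : (q.map (algebraMap F Ω)).Monic := (minpoly.monic hint.tower_top).map _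
  have hl : q.map (algebraMap F Ω) ∈ Polynomial.lifts (algebraMap S Ω) := by
    refine (IsAlgClosed.splits _).mem_lift_of_roots_mem_range hqm _ fun a ha => ?_
    have hd : Polynomial.aeval a (minpoly k β) = 0 := by
      obtain ⟨r, hr⟩ := minpoly.dvd_map_of_isScalarTower k F β
      rw [← Polynomial.aeval_map_algebraMap F, hr, map_mul]
      have h0 : Polynomial.aeval a q = 0 := by
        rw [Polynomial.aeval_def, ← Polynomial.eval_map]
        exact (Polynomial.mem_roots'.1 ha).2
      rw [h0, zero_mul]
    exact ⟨⟨a, mem_separableClosure_iff.2 (hβ.of_dvd (minpoly.dvd k a hd))⟩, rfl⟩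
  have hlk : q ∈ Polynomial.lifts (algebraMap k F) := by
    rw [Polynomial.lifts_iff_coeff_lifts]
    intro n
    obtain ⟨s, hs⟩ := (Polynomial.lifts_iff_coeff_lifts _).1 hl n
    rw [Polynomial.coeff_map] at hs
    have h1 : (IsScalarTower.toAlgHom k F Ω) (q.coeff n) ∈ separableClosure k Ω := by
      change algebraMap F Ω (q.coeff n) ∈ S
      rw [← hs]; exact s.2
    have h2 := (map_mem_separableClosure_iff (IsScalarTower.toAlgHom k F Ω)).1 h1
    rw [h] at h2
    exact IntermediateField.mem_bot.1 h2
  obtain ⟨p, hp, hdeg, hpm⟩ := Polynomial.lifts_and_natDegree_eq_and_monic hlk (minpoly.monic hint.tower_top)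
  change (minpoly k β).natDegree ≤ q.natDegree
  rw [← hdeg]
  refine Polynomial.natDegree_le_of_dvd (minpoly.dvd k β ?_) hpm.ne_zero
  rw [← Polynomial.aeval_map_algebraMap F, hp]
  exact minpoly.aeval F β

/-- A primary extension tensored with a finite separable extension is a domain. -/
theorem isDomain_tensor_separable {k F E : Type u} [Field k] [Field F] [Field E] [Algebra k F]
    [Algebra k E] [FiniteDimensional k E] [Algebra.IsSeparable k E] (h : separableClosure k F = ⊥) :
    IsDomain (F ⊗[k] E) := by
  let pb := Field.powerBasisOfFiniteOfSeparable k E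
  let Ω := AlgebraicClosure F
  let j : E →ₐ[k] Ω := IsAlgClosed.lift
  let Φ : F ⊗[k] E →ₐ[F] Ω :=
    Algebra.TensorProduct.lift (Algebra.ofId F Ω) j (fun _ _ => Commute.all _ _)
  let β := j pb.gen
  have hsep : IsSeparable k β := by
    have := Algebra.IsSeparable.isSeparable k pb.gen
    change (minpoly k β).Separable
    rwa [minpoly.algHom_eq j j.injective]
  have hdim : (minpoly F β).natDegree = pb.dim := by
    rw [natDegree_minpoly_eq h β hsep, minpoly.algHom_eq j j.injective, pb.natDegree_minpoly]
  let b := Algebra.TensorProduct.basis F pb.basis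
  have hli : LinearIndependent F (fun i : Fin pb.dim => β ^ (i : ℕ)) :=
    hdim ▸ linearIndependent_pow β
  have heq : (Φ.toLinearMap ∘ b) = fun i : Fin pb.dim => β ^ (i : ℕ) := by
    funext i
    simp [Φ, b, β]
  have hinj : Function.Injective Φ.toLinearMap := by
    rw [← LinearMap.ker_eq_bot, Submodule.eq_bot_iff]
    intro z hz
    have h0 : ∑ i, b.repr z i • β ^ (i : ℕ) = 0 := by
      rw [← LinearMap.mem_ker.1 hz]
      conv_rhs => rw [← b.sum_repr z, map_sum]
      exact Finset.sum_congr rfl fun i _ => by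
        rw [map_smul]; exact congrArg (_ • ·) (congrFun heq i).symm
    have h1 := Fintype.linearIndependent_iff.1 hli _ h0
    exact b.repr.injective (Finsupp.ext fun i => by rw [h1 i, map_zero, Finsupp.zero_apply])
  exact Function.Injective.isDomain Φ.toRingHom hinj

/-- A primary extension tensored with an algebraic separable extension is a domain. -/
theorem isDomain_tensor_separable' {k F S : Type u} [Field k] [Field F] [Field S] [Algebra k F]
    [Algebra k S] [Algebra.IsSeparable k S] (h : separableClosure k F = ⊥) :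
    IsDomain (F ⊗[k] S) := by
  haveI : Nontrivial (F ⊗[k] S) := TensorProduct.nontrivial_of_linearMap_injective_of_flat_left k F S
    (Algebra.linearMap k S) (algebraMap k S).injective
  haveI : NoZeroDivisors (F ⊗[k] S) := ⟨fun {x y} hxy => by
    obtain ⟨C₁, hC₁, z₁, hz₁⟩ := exists_fg_and_mem_baseChange x
    obtain ⟨C₂, hC₂, z₂, hz₂⟩ := exists_fg_and_mem_baseChange y
    obtain ⟨s₁, hs₁⟩ := hC₁
    obtain ⟨s₂, hs₂⟩ := hC₂
    classical
    let E := IntermediateField.adjoin k ((s₁ ∪ s₂ : Finset S) : Set S)
    haveI : FiniteDimensional k E := IntermediateField.finiteDimensional_adjoin fun a _ =>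
      (Algebra.IsSeparable.isSeparable k a).isIntegral
    have l₁ : C₁ ≤ E.toSubalgebra := hs₁ ▸ Algebra.adjoin_le fun a ha =>
      IntermediateField.subset_adjoin k _ (Finset.mem_coe.2 (Finset.mem_union_left _ (Finset.mem_coe.1 ha)))
    have l₂ : C₂ ≤ E.toSubalgebra := hs₂ ▸ Algebra.adjoin_le fun a ha =>
      IntermediateField.subset_adjoin k _ (Finset.mem_coe.2 (Finset.mem_union_right _ (Finset.mem_coe.1 ha)))
    haveI : IsDomain (F ⊗[k] E) := isDomain_tensor_separable h
    let m := Algebra.TensorProduct.map (AlgHom.id F F) E.val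
    have hm : Function.Injective m :=
      Module.Flat.lTensor_preserves_injective_linearMap _ Subtype.val_injective
    have key : ∀ (C : Subalgebra k S) (hC : C ≤ E.toSubalgebra) z,
        Algebra.TensorProduct.map (AlgHom.id F F) C.val z =
          m (Algebra.TensorProduct.map (AlgHom.id F F) (Subalgebra.inclusion hC) z) := by
      intro C hC z
      induction z with
      | zero => rw [map_zero, map_zero, map_zero]
      | tmul a b => simp [m]; rfl
      | add a b ha hb => rw [map_add, map_add, map_add, ha, hb]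
    have e1 := (key C₁ l₁ z₁).symm.trans hz₁
    have e2 := (key C₂ l₂ z₂).symm.trans hz₂
    rw [← e1, ← e2, ← map_mul, map_eq_zero_iff m hm] at hxy
    rcases mul_eq_zero.1 hxy with h | h
    · exact Or.inl (by rw [← e1, h, map_zero])
    · exact Or.inr (by rw [← e2, h, map_zero])⟩
  exact NoZeroDivisors.to_isDomain _

/-- A primary extension stays irreducible over the algebraic closure. -/
theorem irreducibleSpace_primary {k F : Type u} [Field k] [Field F] [Algebra k F]
    (h : separableClosure k F = ⊥) :
    IrreducibleSpace (PrimeSpectrum (F ⊗[k] AlgebraicClosure k)) := by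
  let S := separableClosure k (AlgebraicClosure k)
  haveI := isDomain_tensor_separable' (S := S) h
  haveI : IsDomain (↥S ⊗[k] F) := (Algebra.TensorProduct.comm k ↥S F).toMulEquiv.isDomain_iff.2 ‹_›
  have h1 := PrimeSpectrum.isHomeomorph_comap_tensorProductMap_of_isPurelyInseparable
    (K := ↥S) (R := k) (S := F) (AlgebraicClosure k)
  haveI : IrreducibleSpace (PrimeSpectrum (AlgebraicClosure k ⊗[k] F)) :=
    h1.homeomorph.irreducibleSpace_iff.2 inferInstance
  exact (PrimeSpectrum.isHomeomorph_comap_of_bijective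
    (f := (Algebra.TensorProduct.comm k F (AlgebraicClosure k)).symm.toRingEquiv.toRingHom)
    (Algebra.TensorProduct.comm k F (AlgebraicClosure k)).symm.bijective).homeomorph.irreducibleSpace_iff.2 ‹_›

/-- An integral, universally injective, surjective morphism is a homeomorphism. -/
theorem isHomeomorph_of_integral {X Y : Scheme.{u}} (f : X ⟶ Y) [IsIntegralHom f] [Surjective f]
    [UniversallyInjective f] : IsHomeomorph f :=
  isHomeomorph_iff_continuous_isClosedMap_bijective.2
    ⟨f.continuous, f.isClosedMap, f.injective, f.surjective⟩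

end Groth.Agent.GeomConn
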