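import Mathlib
import Groth.Agent.GeomConn.Basic
/-!
Components under extension of the base field.
-/
universe u
open AlgebraicGeometry CategoryTheory CategoryTheory.Limits TensorProduct Groth.Agent.GrpField
set_option backward.isDefEq.respectTransparency false
set_option linter.style.haveILetI false

namespace Groth.Agent.GeomConn

theorem surjective_Spec_field {K L : Type u} [Field K] [Field L] [Algebra K L] :
    Surjective (Spec.map (CommRingCat.ofHom (algebraMap K L))) :=
  ⟨fun _ => ⟨IsLocalRing.closedPoint L, @Subsingleton.elim (PrimeSpectrum K) inferInstance _ _⟩⟩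

/-- The projection between the base changes along a tower of field extensions. -/
theorem exists_factor {k k' L : Type u} [Field k] [Field k'] [Field L] [Algebra k k'] [Algebra k L]
    [Algebra k' L] [IsScalarTower k k' L] {X : Scheme.{u}} (f : X ⟶ Spec (CommRingCat.of k)) :
    ∃ q : pullback f (Spec.map (CommRingCat.ofHom (algebraMap k L))) ⟶
        pullback f (Spec.map (CommRingCat.ofHom (algebraMap k k'))),
      q ≫ pullback.fst f _ = pullback.fst f _ ∧
        IsPullback q (pullback.snd f _) (pullback.snd f _)
          (Spec.map (CommRingCat.ofHom (algebraMap k' L))) := by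
  have e : Spec.map (CommRingCat.ofHom (algebraMap k' L)) ≫ Spec.map (CommRingCat.ofHom (algebraMap k k')) =
      Spec.map (CommRingCat.ofHom (algebraMap k L)) := by
    rw [← Spec.map_comp, ← CommRingCat.ofHom_comp, ← IsScalarTower.algebraMap_eq]
  let q : pullback f (Spec.map (CommRingCat.ofHom (algebraMap k L))) ⟶
      pullback f (Spec.map (CommRingCat.ofHom (algebraMap k k'))) :=
    pullback.lift (pullback.fst f _)
      (pullback.snd f _ ≫ Spec.map (CommRingCat.ofHom (algebraMap k' L)))
      (by rw [Category.assoc, e, pullback.condition])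
  refine ⟨q, pullback.lift_fst _ _ _, IsPullback.of_right ?_ (pullback.lift_snd _ _ _)
    (IsPullback.of_hasPullback f (Spec.map (CommRingCat.ofHom (algebraMap k k'))))⟩
  rw [pullback.lift_fst, e]
  exact IsPullback.of_hasPullback _ _

/-- The properties of the projection along a tower of field extensions. -/
theorem factor_props {k k' L : Type u} [Field k] [Field k'] [Field L] [Algebra k k'] [Algebra k L]
    [Algebra k' L] [IsScalarTower k k' L] {X : Scheme.{u}} (f : X ⟶ Spec (CommRingCat.of k))
    {q : pullback f (Spec.map (CommRingCat.ofHom (algebraMap k L))) ⟶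
      pullback f (Spec.map (CommRingCat.ofHom (algebraMap k k')))}
    (hq : IsPullback q (pullback.snd f _) (pullback.snd f _)
      (Spec.map (CommRingCat.ofHom (algebraMap k' L)))) :
    Function.Surjective q ∧ IsOpenMap q ∧
      (IsAlgClosed k' → GeometricallyIrreducible q ∧ GeometricallyConnected q) := by
  haveI : Surjective q := MorphismProperty.of_isPullback hq.flip surjective_Spec_field
  haveI : UniversallyOpen q := MorphismProperty.of_isPullback hq.flip (PointBase.uopen L _)
  refine ⟨q.surjective, q.isOpenMap, fun _ => ?_⟩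
  exact ⟨MorphismProperty.of_isPullback hq.flip (geometricallyIrreducible_Spec (k := k') L),
    MorphismProperty.of_isPullback hq.flip (geometricallyConnected_Spec (k := k') L)⟩

/-- Two extension fields have a common extension field. -/
theorem exists_common_field (k K Ω : Type u) [Field k] [Field K] [Field Ω] [Algebra k K] [Algebra k Ω] :
    ∃ (L : Type u) (_ : Field L) (_ : Algebra k L) (_ : Algebra K L) (_ : Algebra Ω L),
      IsScalarTower k K L ∧ IsScalarTower k Ω L := by
  haveI : Nontrivial (K ⊗[k] Ω) := TensorProduct.nontrivial_of_linearMap_injective_of_flat_left k K Ω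
    (Algebra.linearMap k Ω) (algebraMap k Ω).injective
  obtain ⟨m, hm⟩ := Ideal.exists_maximal (K ⊗[k] Ω)
  letI := Ideal.Quotient.field m
  let a : Ω →ₐ[k] (K ⊗[k] Ω) ⧸ m :=
    (Ideal.Quotient.mkₐ k m).comp Algebra.TensorProduct.includeRight
  letI := a.toRingHom.toAlgebra
  exact ⟨(K ⊗[k] Ω) ⧸ m, inferInstance, inferInstance, inferInstance, inferInstance,
    inferInstance, IsScalarTower.of_algebraMap_eq fun c => (a.commutes c).symm⟩

theorem connectedComponents_map_surjective {A B : Scheme.{u}} (q : A ⟶ B) (hq : Function.Surjective q) :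
    Function.Surjective (q.continuous.connectedComponentsMap) := by
  intro c
  obtain ⟨b, rfl⟩ := _root_.ConnectedComponents.surjective_coe c
  obtain ⟨a, rfl⟩ := hq b
  exact ⟨_root_.ConnectedComponents.mk a, rfl⟩

/-- A component of the target is dominated by a component of the source. -/
theorem exists_component_over {A B : Scheme.{u}} (q : A ⟶ B) (hq : Function.Surjective q)
    {Z : Set B} (hZ : Z ∈ irreducibleComponents B) :
    ∃ D ∈ irreducibleComponents A, closure (q '' D) = Z := by
  obtain ⟨a, ha⟩ := hq hZ.1.genericPoint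
  refine ⟨irreducibleComponent a, irreducibleComponent_mem_irreducibleComponents a, ?_⟩
  have hi : IsIrreducible (closure (q '' irreducibleComponent a)) :=
    (isIrreducible_irreducibleComponent.image _ q.continuous.continuousOn).closure
  refine subset_antisymm (hZ.2 hi ?_) ?_
  · rw [← hZ.1.closure_genericPoint (isClosed_of_mem_irreducibleComponents _ hZ)]
    exact closure_mono (Set.singleton_subset_iff.2 ⟨a, mem_irreducibleComponent, ha⟩)
  · rw [← hZ.1.closure_genericPoint (isClosed_of_mem_irreducibleComponents _ hZ)]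
    exact closure_mono (Set.singleton_subset_iff.2 ⟨a, mem_irreducibleComponent, ha⟩)

theorem mk_components_le {A B : Scheme.{u}} (q : A ⟶ B) (hq : Function.Surjective q) :
    Cardinal.mk ↥(irreducibleComponents B) ≤ Cardinal.mk ↥(irreducibleComponents A) := by
  choose D hD hDZ using fun Z : irreducibleComponents B => exists_component_over q hq Z.2
  refine Cardinal.mk_le_of_injective (f := fun Z => (⟨D Z, hD Z⟩ : irreducibleComponents A)) ?_
  intro Z Z' h
  apply Subtype.ext
  rw [← hDZ Z, ← hDZ Z', show D Z = D Z' from congrArg Subtype.val h]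

/-- Generalizations lift along open maps with the base change of a field extension. -/
theorem generalizingMap_fst {k K : Type u} [Field k] [Field K] [Algebra k K] {X : Scheme.{u}}
    (f : X ⟶ Spec (CommRingCat.of k)) :
    GeneralizingMap (pullback.fst f (Spec.map (CommRingCat.ofHom (algebraMap k K)))) := by
  haveI : Flat (Spec.map (CommRingCat.ofHom (algebraMap k K))) :=
    (HasRingHomProperty.Spec_iff (P := @Flat)).2 (RingHom.flat_algebraMap_iff.2 inferInstance)
  exact Flat.generalizingMap _

/-- In a space with finitely many preconnected sets meeting every nonempty clopen set, there are at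
most that many connected components. -/
theorem connectedComponents_finite {P : Type*} [TopologicalSpace P] {n : Type*} [Finite n]
    (D : n → Set P) (hD : ∀ i, _root_.IsPreconnected (D i))
    (h : ∀ U : Set P, IsClopen U → U.Nonempty → ∃ i, (D i ∩ U).Nonempty) :
    Finite (_root_.ConnectedComponents P) ∧ Nat.card (_root_.ConnectedComponents P) ≤ Nat.card n := by
  classical
  have hinj : Set.InjOn (fun U : Set P => {i | (D i ∩ U).Nonempty}) {U | IsClopen U} := by
    have key : ∀ U V : Set P, IsClopen U → IsClopen V →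
        {i | (D i ∩ U).Nonempty} ⊆ {i | (D i ∩ V).Nonempty} → U ⊆ V := by
      intro U V hU hV hsub
      by_contra hne
      obtain ⟨p, hpU, hpV⟩ := Set.not_subset.1 hne
      obtain ⟨i, a, ha, haU, haV⟩ := h (U \ V) (hU.diff hV) ⟨p, hpU, hpV⟩
      obtain ⟨b, hb, hbV⟩ := hsub ⟨a, ha, haU⟩
      exact haV ((hD i).subset_isClopen hV ⟨b, hb, hbV⟩ ha)
    exact fun U hU V hV he => subset_antisymm (key U V hU hV he.subset) (key V U hV hU he.symm.subset)
  have hfin : {U : Set P | IsClopen U}.Finite :=
    Set.Finite.of_finite_image (Set.toFinite _) hinj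
  have hmin : ∀ p : P, IsClopen (⋂₀ {U : Set P | IsClopen U ∧ p ∈ U}) := fun p => by
    have hf : {U : Set P | IsClopen U ∧ p ∈ U}.Finite := hfin.subset fun U hU => hU.1
    rw [Set.sInter_eq_biInter]
    exact ⟨isClosed_biInter fun U hU => hU.1.1, hf.isOpen_biInter fun U hU => hU.1.2⟩
  have hcc : ∀ p : P, ⋂₀ {U : Set P | IsClopen U ∧ p ∈ U} = connectedComponent p := fun p => by
    have hmem : p ∈ ⋂₀ {U : Set P | IsClopen U ∧ p ∈ U} := fun U hU => hU.2
    refine subset_antisymm ?_ (isPreconnected_connectedComponent.subset_isClopen (hmin p)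
      ⟨p, mem_connectedComponent, hmem⟩)
    refine IsPreconnected.subset_connectedComponent ?_ hmem
    intro u v hu hv huv ⟨a, ha, hau⟩ ⟨b, hb, hbv⟩
    by_contra hne
    have hopen : ∀ w : Set P, IsOpen w → IsOpen (⋂₀ {U : Set P | IsClopen U ∧ p ∈ U} ∩ w) :=
      fun w hw => (hmin p).2.inter hw
    have hclu : ∀ u v : Set P, IsOpen v → (⋂₀ {U : Set P | IsClopen U ∧ p ∈ U}) ⊆ u ∪ v →
        ¬ ((⋂₀ {U : Set P | IsClopen U ∧ p ∈ U}) ∩ (u ∩ v)).Nonempty →
        IsClosed (⋂₀ {U : Set P | IsClopen U ∧ p ∈ U} ∩ u) := fun u v hv huv hne => by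
      rw [show ⋂₀ {U : Set P | IsClopen U ∧ p ∈ U} ∩ u = ⋂₀ {U : Set P | IsClopen U ∧ p ∈ U} ∩ vᶜ from
        Set.ext fun z => ⟨fun hz => ⟨hz.1, fun hzv => hne ⟨z, hz.1, hz.2, hzv⟩⟩,
          fun hz => ⟨hz.1, (huv hz.1).resolve_right hz.2⟩⟩]
      exact (hmin p).1.inter hv.isClosed_compl
    rcases huv hmem with hpu | hpv
    · exact hne ⟨b, hb, ((Set.sInter_subset_of_mem (show _ ∈ {U : Set P | IsClopen U ∧ p ∈ U} from
        ⟨⟨hclu u v hv huv hne, hopen u hu⟩, hmem, hpu⟩)) hb).2, hbv⟩
    · exact hne ⟨a, ha, hau, ((Set.sInter_subset_of_mem (show _ ∈ {U : Set P | IsClopen U ∧ p ∈ U} from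
        ⟨⟨hclu v u hu (Set.union_comm u v ▸ huv) (Set.inter_comm u v ▸ hne), hopen v hv⟩, hmem, hpv⟩)) ha).2⟩
  have hsurj : ∀ c : _root_.ConnectedComponents P, ∃ i, ∃ a ∈ D i, _root_.ConnectedComponents.mk a = c := by
    intro c
    obtain ⟨p, rfl⟩ := _root_.ConnectedComponents.surjective_coe c
    obtain ⟨i, a, ha, hap⟩ := h (connectedComponent p) (hcc p ▸ hmin p) ⟨p, mem_connectedComponent⟩
    exact ⟨i, a, ha, ConnectedComponents.coe_eq_coe.2 (connectedComponent_eq hap).symm⟩
  choose i a ha hca using hsurj
  have hinj' : Function.Injective i := fun c c' he => by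
    rw [← hca c, ← hca c']
    exact ConnectedComponents.coe_eq_coe.2 (connectedComponent_eq
      ((hD (i c)).subset_connectedComponent (ha c) (he ▸ ha c')))
  exact ⟨Finite.of_injective i hinj', Nat.card_le_card_of_injective i hinj'⟩

end Groth.Agent.GeomConn
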