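import Mathlib
import Groth.Agent.GeomConn.Normal
import Groth.Agent.GeomConn.Comp
/-!
The fibre of an algebraic base change over a point, split by the embeddings of the separable closure
of the base field in the residue field.
-/
universe u
open AlgebraicGeometry CategoryTheory CategoryTheory.Limits TensorProduct Groth.Agent.GrpField
set_option backward.isDefEq.respectTransparency false
set_option linter.style.haveILetI false

namespace Groth.Agent.GeomConn

/-- A primary extension stays irreducible over algebraic extensions. -/
theorem irreducibleSpace_pullback_primary {k F K : Type u} [Field k] [Field F] [Field K] [Algebra k F]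
    [Algebra k K] [Algebra.IsAlgebraic k K] (h : separableClosure k F = ⊥) :
    IrreducibleSpace ↥(pullback (Spec.map (CommRingCat.ofHom (algebraMap k F)))
      (Spec.map (CommRingCat.ofHom (algebraMap k K)))) := by
  let ι : K →ₐ[k] AlgebraicClosure k := IsAlgClosed.lift
  letI := ι.toRingHom.toAlgebra
  haveI : IsScalarTower k K (AlgebraicClosure k) := IsScalarTower.of_algebraMap_eq fun c => (ι.commutes c).symm
  haveI := irreducibleSpace_primary h
  haveI : IrreducibleSpace ↥(Spec (CommRingCat.of (F ⊗[k] AlgebraicClosure k))) :=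
    inferInstanceAs (IrreducibleSpace (PrimeSpectrum (F ⊗[k] AlgebraicClosure k)))
  haveI : IrreducibleSpace ↥(pullback (Spec.map (CommRingCat.ofHom (algebraMap k F)))
      (Spec.map (CommRingCat.ofHom (algebraMap k (AlgebraicClosure k))))) :=
    (pullbackSpecIso k F (AlgebraicClosure k)).hom.homeomorph.irreducibleSpace_iff.2 ‹_›
  obtain ⟨q, -, hq⟩ := exists_factor (k := k) (k' := K) (L := AlgebraicClosure k)
    (Spec.map (CommRingCat.ofHom (algebraMap k F)))
  exact Function.Surjective.irreducibleSpace q.continuous (factor_props _ hq).1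

/-- Specializations between points of the fibre of an algebraic base change are trivial. -/
theorem eq_of_specializes_fst {k K : Type u} [Field k] [Field K] [Algebra k K] [Algebra.IsAlgebraic k K]
    {X : Scheme.{u}} (f : X ⟶ Spec (CommRingCat.of k))
    {z z' : ↥(pullback f (Spec.map (CommRingCat.ofHom (algebraMap k K))))} (h : z ⤳ z')
    (he : pullback.fst f _ z = pullback.fst f _ z') : z = z' := by
  let g := Spec.map (CommRingCat.ofHom (algebraMap k K))
  let x := pullback.fst f g z
  obtain ⟨φ, hφ⟩ := Spec.map_surjective (X.fromSpecResidueField x ≫ f)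
  letI := φ.hom.toAlgebra
  let m := pullback.map (X.fromSpecResidueField x ≫ f) g f g (X.fromSpecResidueField x) (𝟙 _) (𝟙 _)
    (by simp) (by simp)
  haveI : IsPreimmersion m := by
    have hm : m = (pullbackRightPullbackFstIso f g (X.fromSpecResidueField x)).inv ≫
        pullback.snd (X.fromSpecResidueField x) (pullback.fst f g) := by
      apply pullback.hom_ext <;> simp [m, ← pullback.condition]
    rw [hm]
    infer_instance
  have hr : (pullback.fst f g) ⁻¹' {x} ⊆ Set.range m := by
    rw [Scheme.Pullback.range_map, Scheme.range_fromSpecResidueField]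
    exact fun t ht => ⟨ht, ⟨_, rfl⟩⟩
  obtain ⟨a, ha⟩ := hr (show pullback.fst f g z ∈ ({x} : Set X) from rfl)
  obtain ⟨b, hb⟩ := hr (show pullback.fst f g z' ∈ ({x} : Set X) from he.symm)
  rw [← ha, ← hb] at h ⊢
  haveI : Algebra.IsIntegral k K := inferInstance
  let F : Type u := X.residueField x
  let a' := (pullback.congrHom (show X.fromSpecResidueField x ≫ f = Spec.map (CommRingCat.ofHom (algebraMap k F))
    from hφ.symm) (rfl : g = g) ≪≫ pullbackSpecIso k F K).hom.homeomorph
  have hab : a' a ⤳ a' b :=
    ((m.isEmbedding.isInducing.specializes_iff).1 h).map a'.continuous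
  have hmax : (show PrimeSpectrum (F ⊗[k] K) from a' a).asIdeal.IsMaximal :=
    Ideal.isMaximal_of_isIntegral_of_isMaximal_comap (R := F) _
      (((Ideal.IsPrime.comap (algebraMap F (F ⊗[k] K))
        (hK := (show PrimeSpectrum (F ⊗[k] K) from a' a).isPrime))).isMaximal' )
  have hle : (show PrimeSpectrum (F ⊗[k] K) from a' a).asIdeal ≤
      (show PrimeSpectrum (F ⊗[k] K) from a' b).asIdeal :=
    (PrimeSpectrum.le_iff_specializes _ _).2 hab
  have := hmax.eq_of_le (show PrimeSpectrum (F ⊗[k] K) from a' b).isPrime.ne_top hle
  exact congrArg m (a'.injective (PrimeSpectrum.ext this))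

/-- The piece of the fibre belonging to an embedding `τ`. -/
def piece {k K : Type u} [Field k] [Field K] [Algebra k K] {X : Scheme.{u}}
    (f : X ⟶ Spec (CommRingCat.of k)) {k' : Type u} [Field k'] [Algebra k k'] (x : X)
    (i : k' →+* X.residueField x) (τ : k' →ₐ[k] K) :
    Set ↥(pullback f (Spec.map (CommRingCat.ofHom (algebraMap k K)))) :=
  {z | ∃ (L : Type u) (_ : Field L) (a : CommRingCat.of (X.residueField x) ⟶ CommRingCat.of L)
      (u : Spec (CommRingCat.of L) ⟶ pullback f (Spec.map (CommRingCat.ofHom (algebraMap k K))))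
      (b : CommRingCat.of K ⟶ CommRingCat.of L),
      u (IsLocalRing.closedPoint L) = z ∧ u ≫ pullback.fst f _ = Spec.map a ≫ X.fromSpecResidueField x ∧
      u ≫ pullback.snd f _ = Spec.map b ∧ a.hom.comp i = b.hom.comp τ.toRingHom}

variable {k K : Type u} [Field k] [Field K] [Algebra k K] {X : Scheme.{u}}
  {f : X ⟶ Spec (CommRingCat.of k)} {x : X} {φ : k →+* X.residueField x}

theorem piece_subset {k' : Type u} [Field k'] [Algebra k k'] (i : k' →+* X.residueField x)
    (τ : k' →ₐ[k] K) : piece f x i τ ⊆ (pullback.fst f _) ⁻¹' {x} := by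
  rintro z ⟨L, _, a, u, b, hz, hu, -, -⟩
  change pullback.fst f _ z = x
  rw [← hz, ← Scheme.Hom.comp_apply, hu, Scheme.Hom.comp_apply]
  exact Scheme.fromSpecResidueField_apply _ _

theorem piece_disjoint {k' : Type u} [Field k'] [Algebra k k'] (i : k' →+* X.residueField x)
    {τ τ' : k' →ₐ[k] K} {z : ↥(pullback f (Spec.map (CommRingCat.ofHom (algebraMap k K))))}
    (h : z ∈ piece f x i τ) (h' : z ∈ piece f x i τ') : τ = τ' := by
  obtain ⟨L, _, a, u, b, hz, hu, hub, hab⟩ := h
  obtain ⟨L', _, a', u', b', hz', hu', hub', hab'⟩ := h'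
  obtain ⟨t, -, -⟩ := Scheme.Pullback.exists_preimage_pullback (f := u) (g := u') _ _ (hz.trans hz'.symm)
  let M : Type u := (pullback u u').residueField t
  letI : Field M := inferInstanceAs (Field ((pullback u u').residueField t))
  let v : Spec (CommRingCat.of M) ⟶ pullback u u' := (pullback u u').fromSpecResidueField t
  obtain ⟨c, hc⟩ := Spec.map_surjective (v ≫ pullback.fst u u')
  obtain ⟨c', hc'⟩ := Spec.map_surjective (v ≫ pullback.snd u u')
  have hv : Spec.map c ≫ u = Spec.map c' ≫ u' := by
    rw [hc, hc', Category.assoc, Category.assoc, pullback.condition]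
  have e1 : a ≫ c = a' ≫ c' := by
    apply Spec.map_injective
    rw [Spec.map_comp, Spec.map_comp, ← cancel_mono (X.fromSpecResidueField x), Category.assoc,
      Category.assoc, ← hu, ← hu', ← Category.assoc, ← Category.assoc, hv]
  have e2 : b ≫ c = b' ≫ c' := by
    apply Spec.map_injective
    rw [Spec.map_comp, Spec.map_comp, ← hub, ← hub', ← Category.assoc, ← Category.assoc, hv]
  apply AlgHom.ext
  intro s
  apply (c.hom.comp b.hom).injective
  calc c.hom (b.hom (τ s)) = c.hom (a.hom (i s)) := congrArg c.hom (DFunLike.congr_fun hab s).symm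
    _ = c'.hom (a'.hom (i s)) := DFunLike.congr_fun (congrArg CommRingCat.Hom.hom e1) _
    _ = c'.hom (b'.hom (τ' s)) := congrArg c'.hom (DFunLike.congr_fun hab' s)
    _ = c.hom (b.hom (τ' s)) := (DFunLike.congr_fun (congrArg CommRingCat.Hom.hom e2) _).symm

section
variable [Normal k K]

/-- The pieces cover the fibre. -/
theorem exists_piece (hφ : Spec.map (CommRingCat.ofHom φ) = X.fromSpecResidueField x ≫ f)
    {k' : Type u} [Field k'] [Algebra k k'] [Algebra.IsAlgebraic k k'] (i : k' →+* X.residueField x)
    (hi : i.comp (algebraMap k k') = φ) (τ₀ : k' →ₐ[k] K)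
    (z : ↥(pullback f (Spec.map (CommRingCat.ofHom (algebraMap k K)))))
    (hz : pullback.fst f _ z = x) : ∃ τ : k' →ₐ[k] K, z ∈ piece f x i τ := by
  let P := pullback f (Spec.map (CommRingCat.ofHom (algebraMap k K)))
  let L : Type u := P.residueField z
  letI : Field L := inferInstanceAs (Field (P.residueField z))
  let u : Spec (CommRingCat.of L) ⟶ P := P.fromSpecResidueField z
  have hu0 : u (IsLocalRing.closedPoint L) = z := Scheme.fromSpecResidueField_apply _ _
  obtain ⟨⟨x₀, a⟩, ha⟩ := (Scheme.SpecToEquivOfField L X).symm.surjective (u ≫ pullback.fst f _)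
  have ha' : Spec.map a ≫ X.fromSpecResidueField x₀ = u ≫ pullback.fst f _ := ha
  have hx₀ : x₀ = x := by
    rw [← hz, ← hu0, ← Scheme.Hom.comp_apply, ← ha', Scheme.Hom.comp_apply]
    exact (Scheme.fromSpecResidueField_apply _ _).symm
  subst hx₀
  obtain ⟨b, hb⟩ := Spec.map_surjective (u ≫ pullback.snd f _)
  have hab : CommRingCat.ofHom φ ≫ a = CommRingCat.ofHom (algebraMap k K) ≫ b := by
    apply Spec.map_injective
    rw [Spec.map_comp, Spec.map_comp, hφ, hb, ← Category.assoc, ha', Category.assoc, Category.assoc,
      pullback.condition]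
  letI : Algebra k L := (b.hom.comp (algebraMap k K)).toAlgebra
  let β : K →ₐ[k] L := { b.hom with commutes' := fun c => rfl }
  let α : k' →ₐ[k] L := { a.hom.comp i with
    commutes' := fun c => (congrArg a.hom (DFunLike.congr_fun hi c)).trans
      (congrArg (fun m => m.hom c) hab) }
  have hrange : ∀ s, α s ∈ β.fieldRange := by
    intro s
    have hint : IsIntegral k s := (Algebra.IsAlgebraic.isAlgebraic s).isIntegral
    have hsplit : ((minpoly k s).map (algebraMap k K)).Splits := by
      rw [← minpoly.algHom_eq τ₀ τ₀.injective]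
      exact Normal.splits inferInstance (τ₀ s)
    have h0 : Polynomial.aeval (α s) (minpoly k s) = 0 := by
      rw [Polynomial.aeval_algHom_apply, minpoly.aeval, map_zero]
    exact hsplit.mem_range_of_isRoot (i := β.toRingHom)
      ((Polynomial.map_ne_zero (minpoly.ne_zero hint)))
      (by rw [Polynomial.IsRoot, Polynomial.eval_map, Polynomial.eval₂_map, AlgHom.toRingHom_eq_coe,
        AlgHom.comp_algebraMap]; exact h0)
  let τ : k' →ₐ[k] K :=
    (AlgEquiv.ofInjectiveField β).symm.toAlgHom.comp (α.codRestrict β.range hrange)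
  refine ⟨τ, L, inferInstance, a, u, b, hu0, ha'.symm, hb.symm, RingHom.ext fun s => ?_⟩
  change α s = β ((AlgEquiv.ofInjectiveField β).symm _)
  exact (congrArg Subtype.val ((AlgEquiv.ofInjectiveField β).apply_symm_apply ⟨α s, hrange s⟩)).symm

/-- The pieces are irreducible. -/
theorem isIrreducible_piece (hφ : Spec.map (CommRingCat.ofHom φ) = X.fromSpecResidueField x ≫ f)
    {k' : Type u} [Field k'] [Algebra k k'] (i : k' →+* X.residueField x)
    (hi : i.comp (algebraMap k k') = φ)
    (hbot : letI := i.toAlgebra; separableClosure k' (X.residueField x) = ⊥) (τ : k' →ₐ[k] K) :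
    IsIrreducible (piece f x i τ) := by
  letI : Algebra k' (X.residueField x) := i.toAlgebra
  letI : Algebra k' K := τ.toRingHom.toAlgebra
  haveI : IsScalarTower k k' K := IsScalarTower.of_algebraMap_eq fun c => (τ.commutes c).symm
  haveI : Algebra.IsAlgebraic k' K := Algebra.IsAlgebraic.tower_top (K := k) k'
  haveI := irreducibleSpace_pullback_primary (k := k') (F := X.residueField x) (K := K) hbot
  let aF := Spec.map (CommRingCat.ofHom (algebraMap k' (X.residueField x)))
  let gK := Spec.map (CommRingCat.ofHom (algebraMap k' K))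
  let m : pullback aF gK ⟶ pullback f (Spec.map (CommRingCat.ofHom (algebraMap k K))) :=
    pullback.map aF gK f _ (X.fromSpecResidueField x) (𝟙 _)
      (Spec.map (CommRingCat.ofHom (algebraMap k k')))
      (by rw [← Spec.map_comp, ← CommRingCat.ofHom_comp, ← hφ]
          exact congrArg (fun t => Spec.map (CommRingCat.ofHom t)) hi)
      (by rw [Category.id_comp, ← Spec.map_comp, ← CommRingCat.ofHom_comp, ← IsScalarTower.algebraMap_eq])
  have heq : piece f x i τ = Set.range m := by
    ext z
    constructor
    · rintro ⟨L, _, a, u, b, hz, hu, hub, hab⟩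
      have e : Spec.map a ≫ aF = Spec.map b ≫ gK := by
        rw [← Spec.map_comp, ← Spec.map_comp]
        exact congrArg Spec.map (CommRingCat.hom_ext hab)
      have hum : pullback.lift (Spec.map a) (Spec.map b) e ≫ m = u := by
        apply pullback.hom_ext <;> simp [m, hu, hub]
      exact ⟨pullback.lift (Spec.map a) (Spec.map b) e (IsLocalRing.closedPoint L), by
        rw [← Scheme.Hom.comp_apply, hum, hz]⟩
    · rintro ⟨w, rfl⟩
      let L : Type u := (pullback aF gK).residueField w
      letI : Field L := inferInstanceAs (Field ((pullback aF gK).residueField w))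
      let v : Spec (CommRingCat.of L) ⟶ pullback aF gK := (pullback aF gK).fromSpecResidueField w
      obtain ⟨a, ha⟩ := Spec.map_surjective (v ≫ pullback.fst aF gK)
      obtain ⟨b, hb⟩ := Spec.map_surjective (v ≫ pullback.snd aF gK)
      refine ⟨L, inferInstance, a, v ≫ m, b, congrArg m (Scheme.fromSpecResidueField_apply _ _),
        by rw [ha, Category.assoc, Category.assoc]; simp [m],
        by rw [hb, Category.assoc]; simp [m], ?_⟩
      refine congrArg CommRingCat.Hom.hom (?_ : CommRingCat.ofHom (algebraMap k' (X.residueField x)) ≫ a =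
        CommRingCat.ofHom (algebraMap k' K) ≫ b)
      apply Spec.map_injective
      rw [Spec.map_comp, Spec.map_comp, ha, hb, Category.assoc, Category.assoc, pullback.condition]
  rw [heq, ← Set.image_univ]
  exact (IrreducibleSpace.isIrreducible_univ _).image _ m.continuous.continuousOn

/-- In a piece there is only one point. -/
theorem piece_subsingleton (hφ : Spec.map (CommRingCat.ofHom φ) = X.fromSpecResidueField x ≫ f)
    {k' : Type u} [Field k'] [Algebra k k'] (i : k' →+* X.residueField x)
    (hi : i.comp (algebraMap k k') = φ)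
    (hbot : letI := i.toAlgebra; separableClosure k' (X.residueField x) = ⊥) (τ : k' →ₐ[k] K) :
    (piece f x i τ).Subsingleton := by
  have h := isIrreducible_piece hφ i hi hbot τ
  have key : ∀ z ∈ piece f x i τ, z = h.genericPoint := by
    intro z hz
    have hg := h.isGenericPoint_genericPoint_closure.specializes (subset_closure hz)
    by_cases hmem : pullback.fst f _ h.genericPoint = x
    · exact (eq_of_specializes_fst f hg (hmem.trans (piece_subset i τ hz).symm)).symm
    · exfalso
      apply hmem
      have h1 : h.genericPoint ∈ closure (piece f x i τ) := h.isGenericPoint_genericPoint_closure.mem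
      have h2 : pullback.fst f _ h.genericPoint ∈ closure ({x} : Set X) :=
        closure_mono (Set.image_subset_iff.2 (piece_subset i τ))
          (image_closure_subset_closure_image (pullback.fst f _).continuous ⟨_, h1, rfl⟩)
      exact ((hg.map (pullback.fst f _).continuous).antisymm
        (by rw [show pullback.fst f _ z = x from piece_subset i τ hz]; exact specializes_iff_mem_closure.2 h2)).eq.trans
          (piece_subset i τ hz)
  exact fun z hz z' hz' => (key z hz).trans (key z' hz').symm

end

end Groth.Agent.GeomConn
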